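import Cfsg.Agent.Spor.Chk

set_option autoImplicit false
set_option maxRecDepth 100000000
set_option Elab.async false
noncomputable section

namespace Cfsg.Agent.Spor.C3C

def m0_0 : Nat := nat_lit 0x5c437ff15448f2d
def m0_1 : Nat := nat_lit 0x4a98c57b000000001311c4ec
def m0_2 : Nat := nat_lit 0x6cde000040330000c1f30000927a
def m0_3 : Nat := nat_lit 0xa000300c1009d0001004600200001
def m0_4 : Nat := nat_lit 0x6000d0302020205010a00020c050600
def m0_5 : Nat := nat_lit 0x13200021102313122232110000201212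
def m0_6 : Nat := nat_lit 0x10410010411141114050551440011001
def m0_7 : Nat := nat_lit 0x10110000101010011000001020001001
def m0_8 : Nat := nat_lit 0x40e000103030203080500030208020c
def m0_9 : Nat := nat_lit 0x42001e0080000000b10063005800a1
def m0_10 : Nat := nat_lit 0x2a01000044280000010f00000067
def m0_11 : Nat := nat_lit 0x4e6a16580000000061d5170c
def m0_12 : Nat := nat_lit 0x5abaeacc64a331c
def n0 : Net := Net.cons 64 m0_0 (Net.cons 32 m0_1 (Net.cons 16 m0_2 (Net.cons 8 m0_3 (Net.cons 4 m0_4 (Net.cons 2 m0_5 (Net.cons 1 m0_6 (Net.cons 2 m0_7 (Net.cons 4 m0_8 (Net.cons 8 m0_9 (Net.cons 16 m0_10 (Net.cons 32 m0_11 (Net.cons 64 m0_12 (Net.nil)))))))))))))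

def m1_0 : Nat := nat_lit 0xe2a53c85afc29020
def m1_1 : Nat := nat_lit 0xdc0124cb0000000088176928
def m1_2 : Nat := nat_lit 0xc462000051530000047300000972
def m1_3 : Nat := nat_lit 0xf6000400520094001900b100870014
def m1_4 : Nat := nat_lit 0xc03030608050c00090b020a0a020b0f
def m1_5 : Nat := nat_lit 0x20032322021201201003300112032102
def m1_6 : Nat := nat_lit 0x44114110101111444410014001151410
def m1_7 : Nat := nat_lit 0x12000010000101001010022001001000
def m1_8 : Nat := nat_lit 0x8010000080601040000040502010000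
def m1_9 : Nat := nat_lit 0x600083000300f00084002900c400c5
def m1_10 : Nat := nat_lit 0x1819000031c0000011b400002b58
def m1_11 : Nat := nat_lit 0x3e3127a00000000080057d08
def m1_12 : Nat := nat_lit 0xe23b25a903c20404
def n1 : Net := Net.cons 64 m1_0 (Net.cons 32 m1_1 (Net.cons 16 m1_2 (Net.cons 8 m1_3 (Net.cons 4 m1_4 (Net.cons 2 m1_5 (Net.cons 1 m1_6 (Net.cons 2 m1_7 (Net.cons 4 m1_8 (Net.cons 8 m1_9 (Net.cons 16 m1_10 (Net.cons 32 m1_11 (Net.cons 64 m1_12 (Net.nil)))))))))))))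

def m2_0 : Nat := nat_lit 0x5a398ce466259eb0
def m2_1 : Nat := nat_lit 0xc0cadb18000000007804ddb0
def m2_2 : Nat := nat_lit 0xb03000006880000082b400000992
def m2_3 : Nat := nat_lit 0x980090001a000200ad002200040001
def m2_4 : Nat := nat_lit 0xc0000080f040a0b0d00010c000604
def m2_5 : Nat := nat_lit 0x32210300111120100112023002230122
def m2_6 : Nat := nat_lit 0x10450411401411414054114441151105
def m2_7 : Nat := nat_lit 0x100021101010011001100000102000
def m2_8 : Nat := nat_lit 0x408060800010001000401040a0402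
def m2_9 : Nat := nat_lit 0x5800820050000c000a0063000d0040
def m2_10 : Nat := nat_lit 0xa82e0000668e00004b200000af02
def m2_11 : Nat := nat_lit 0x906d2adc00000000796c3082
def m2_12 : Nat := nat_lit 0x5a2e655f95420904
def n2 : Net := Net.cons 64 m2_0 (Net.cons 32 m2_1 (Net.cons 16 m2_2 (Net.cons 8 m2_3 (Net.cons 4 m2_4 (Net.cons 2 m2_5 (Net.cons 1 m2_6 (Net.cons 2 m2_7 (Net.cons 4 m2_8 (Net.cons 8 m2_9 (Net.cons 16 m2_10 (Net.cons 32 m2_11 (Net.cons 64 m2_12 (Net.nil)))))))))))))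

def cl1 : Nat := nat_lit 0xffffffffffffffffffffffffffffff
def tt1 : Nat := nat_lit 0x100200520008480204088888808802
def tm1_0 : Nat := nat_lit 0xe7e55dac8572754830322232432010
def tm1_1 : Nat := nat_lit 0x189a2e533a0dd8e3c41dd899918802
def tm1_2 : Nat := nat_lit 0x818a2897b15c7b5eb804004500000
def ip1_0 : Nat := nat_lit 0xef6551ad966761bcd0a27232122010
def ip1_1 : Nat := nat_lit 0x1812a6db79180bc6870c889c808802
def ip1_2 : Nat := nat_lit 0x9808000a15d63168955005510000
def ip1 : List Nat := [ip1_0, ip1_1, ip1_2]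
def l1 : Let := ⟨0, false, cl1, tt1, [tm1_0, tm1_1, tm1_2, 0x0]⟩

def cl2 : Nat := nat_lit 0xffffffffffffffffffffffffffffff
def tt2 : Nat := nat_lit 0x890000008448901010090084
def tm2_0 : Nat := nat_lit 0xec9c12527abdee38b768cb45a40220
def tm2_1 : Nat := nat_lit 0x61f7f9fe0019f48d4cb29017c90084
def tm2_2 : Nat := nat_lit 0xe5f7f56fc76ae94ad38fab0a908000
def tm2_3 : Nat := nat_lit 0x120000000000000000000000000000
def ip2_0 : Nat := nat_lit 0x8c8620038af8731a1c06042f40220
def ip2_1 : Nat := nat_lit 0xa001488f84791c855bb13811c90084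
def ip2_2 : Nat := nat_lit 0xd3d67d704773d14a85aba20b908000
def ip2_3 : Nat := nat_lit 0x42080000000200000040104000000
def ip2 : List Nat := [ip2_0, ip2_1, ip2_2, ip2_3]
def l2 : Let := ⟨1, false, cl2, tt2, [tm2_0, tm2_1, tm2_2, tm2_3]⟩

def cl3 : Nat := nat_lit 0xffffffffffffffffffffffffffffff
def tt3 : Nat := nat_lit 0x8028000110910081010101101108
def tm3_0 : Nat := nat_lit 0xf873dc59f2453e4356f62424414440
def tm3_1 : Nat := nat_lit 0x39223bf61184db9ee5593951119108
def tm3_2 : Nat := nat_lit 0xfdcb716fac7a608858aa12aa000000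
def tm3_3 : Nat := nat_lit 0x20400000000000000000000000000
def ip3_0 : Nat := nat_lit 0x3c72f45646316ec976361ebe41c440
def ip3_1 : Nat := nat_lit 0xa7e143241d6e919299332133101108
def ip3_2 : Nat := nat_lit 0x3c2b7853a4a8680a04421aca018000
def ip3_3 : Nat := nat_lit 0x400402881014021468880000000000
def ip3 : List Nat := [ip3_0, ip3_1, ip3_2, ip3_3]
def l3 : Let := ⟨2, false, cl3, tt3, [tm3_0, tm3_1, tm3_2, tm3_3]⟩

def cl4 : Nat := nat_lit 0xffffffffffffffffffffffffffffff
def tt4 : Nat := nat_lit 0xe76551248462200810222222022010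
def tm4_0 : Nat := nat_lit 0x1072e2526c18481347088888808802
def tm4_1 : Nat := nat_lit 0x6b9cd5255467a0f8dba222260b2010
def tm4_2 : Nat := nat_lit 0xcfe93209bb5782a1c8841000080000
def ip4_0 : Nat := nat_lit 0x10ba84535a58ca53068c888c808802
def ip4_1 : Nat := nat_lit 0xe7d5c72dce7320f95a2232220b2010
def ip4_2 : Nat := nat_lit 0x8283208310782a0c9840004090000
def ip4 : List Nat := [ip4_0, ip4_1, ip4_2]
def l4 : Let := ⟨0, true, cl4, tt4, [tm4_0, tm4_1, tm4_2, 0x0]⟩

def cl5 : Nat := nat_lit 0xffffffffffffffffffffffffffffff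
def tt5 : Nat := nat_lit 0x80802003884023020404040240220
def tm5_0 : Nat := nat_lit 0x1aa5f0fdea8d11ae48b4b0b0892084
def tm5_1 : Nat := nat_lit 0x3f37f342c9a8d751a063e261a40a20
def tm5_2 : Nat := nat_lit 0x7feef9767f7fc86b930e8b80802800
def tm5_3 : Nat := nat_lit 0x800004000000000000000000000000
def ip5_0 : Nat := nat_lit 0xe05160af9589058c58981890890084
def ip5_1 : Nat := nat_lit 0x538931038af8732a046e2c0a40a20
def ip5_2 : Nat := nat_lit 0xfb4775769f2bc94b130aa880000800
def ip5_3 : Nat := nat_lit 0x8008004050100000210121002000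
def ip5 : List Nat := [ip5_0, ip5_1, ip5_2, ip5_3]
def l5 : Let := ⟨1, true, cl5, tt5, [tm5_0, tm5_1, tm5_2, tm5_3]⟩

def cl6 : Nat := nat_lit 0xffffffffffffffffffffffffffffff
def tt6 : Nat := nat_lit 0x1084004201044102040404404440
def tm6_0 : Nat := nat_lit 0x1fc2fd279df691e6a9830183301108
def tm6_1 : Nat := nat_lit 0x521586578e4b446f6eb4b4b4654440
def tm6_2 : Nat := nat_lit 0xdf7fd3eef0ac4a9840c2c242000000
def tm6_3 : Nat := nat_lit 0x200000000000200000000000000000
def ip6_0 : Nat := nat_lit 0x3397ba70e932d30aa583a381341108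
def ip6_1 : Nat := nat_lit 0x5e7b06b4fa8d6cff46d4c6d4404440
def ip6_2 : Nat := nat_lit 0xa90c51442ce6002000622062000000
def ip6_3 : Nat := nat_lit 0x40800b1000028068101010250000
def ip6 : List Nat := [ip6_0, ip6_1, ip6_2, ip6_3]
def l6 : Let := ⟨2, true, cl6, tt6, [tm6_0, tm6_1, tm6_2, tm6_3]⟩

def NT : List Net := [n0, n1, n2]
def LT : List Let := [⟨0, false, 0, 0, []⟩, l1, l2, l3, l4, l5, l6]
def T : Tab := ⟨NT, LT⟩
def EX : List (List Nat) := [[], [0], [2], [4], [1], [3], [5]]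
def RL : List (List Nat) := [[0, 4, 2, 5, 1, 5], [2, 4, 0, 5, 3, 0], [2, 5, 2, 4, 3, 4], [0, 0, 0], [2, 2, 2], [4, 4, 4]]
def XL : List (List Nat) := []
def BW : List (List Nat) := []
def IV : Nat := 0x3020106050400
def L : List Nat := [1, 2, 3, 4, 5, 6]
def gs : List Nat := [1, 2, 3]
def base : List Nat := []

end Cfsg.Agent.Spor.C3C
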